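import Cfsg.Agent.KZ.Lie.Desc
import Cfsg.Agent.KZ.Dat.Spm

/-!
# KZ, type `A ^ (-ε)`: the Weyl group as a symmetric group (helper68)

`AM D Adm Q` : `W` is the symmetric group of `D.R`, `Mx = Q τ`, `3 ∣ Q + 1`.
-/

set_option autoImplicit false
set_option linter.unusedSectionVars false

namespace Cfsg.Agent.KZ.ClM

open Cfsg Cfsg.Agent.DL Cfsg.Agent.DL.PP Cfsg.Agent.KZ.Lie Cfsg.Agent.KZ.Dat Matrix Equiv

section Perm

variable {R : Type} [Fintype R] [DecidableEq R]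

theorem pm_mul (π π' : Perm R) : spm π 1 * spm π' 1 = spm (π * π') 1 := (pmH.map_mul π π').symm

theorem pm_inj {π π' : Perm R} (h : spm π 1 = spm π' 1) : π = π' := (spm_inj.1 h).1

theorem pm_single (π : Perm R) (j : R) (x : ℤ) : spm π 1 *ᵥ Pi.single j x = Pi.single (π j) x := by
  rw [spm_mulVec_single]
  simp

theorem pm_apply (π : Perm R) (v : R → ℤ) (j : R) : (spm π 1 *ᵥ v) (π j) = v j := by
  rw [spm_mulVec]
  simp

theorem smul_pm_inj {Q : ℤ} (hQ : Q ≠ 0) {π π' : Perm R} (h : Q • spm π 1 = Q • spm π' 1) : π = π' :=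
  pm_inj (smul_right_injective _ hQ h)

theorem chr_pm {K : Type} [Field K] (z : ℤ) (π : Perm R) (v : R → ℤ) (c : R → Kˣ) :
    chr ((z • spm π 1) *ᵥ v) c = chr v fun i => c (π i) ^ z := by
  rw [chr_apply, chr_apply, ← Equiv.prod_comp π]
  refine Finset.prod_congr rfl fun i _ => ?_
  rw [smul_mulVec, Pi.smul_apply, pm_apply, smul_eq_mul, _root_.zpow_mul]

theorem chr_pm_iff (z : ℤ) (π : Perm R) (c c' : R → ℂˣ) :
    (∀ v, chr ((z • spm π 1) *ᵥ v) c' = chr v c) ↔ ∀ i, c' (π i) ^ z = c i := by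
  simp only [chr_pm]
  refine ⟨fun h i => ?_, fun h v => by rw [funext h]⟩
  have := h (Pi.single i 1)
  rwa [chr_single, chr_single] at this

end Perm

variable {p : ℕ} [Fact p.Prime] {k : Type} [Field k] [CharP k p] {Y : Type} [Group Y] {N : Type} [Fintype N]
  [DecidableEq N] {ρ : Y →* GL N k} {F : MulAut Y} {G : Subgroup Y} [IsAlgClosed k]

/-- the data of type `A ^ (-ε)` -/
structure AM (D : Datum p ρ F G) (Adm : Matrix D.R D.R ℤ → Prop) (Q : ℤ) : Prop where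
  ex : ∀ π : Perm D.R, ∃ w, D.Wm w = spm π 1
  wm : ∀ w, ∃ π, D.Wm w = spm π 1
  mx : ∃ τ, D.Mx = Q • spm τ 1
  rt : ∀ a, D.Rt a → ∃ i j, i ≠ j ∧ D.wt a = Pi.single i 1 - Pi.single j 1 ∧ D.cor a = Pi.single i 1 - Pi.single j 1
  rt' : ∀ i j, i ≠ j → ∃ a, D.Rt a ∧ D.wt a = Pi.single i 1 - Pi.single j 1
  adm : ∀ A, Adm A → ∃ (j : ℕ) (s : ℤˣ) (π : Perm D.R), A = ((s : ℤ) * (p : ℤ) ^ j) • spm π 1
  Q3 : 3 ∣ Q + 1
  Qp : ∃ e, 0 < e ∧ Q.natAbs = p ^ e
  card : ∃ m, Nat.card (GF F G) = p ^ m * ∏ i ∈ Finset.range (Fintype.card D.R), (Q ^ (i + 1) - 1).natAbs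

namespace AM

variable {D : Datum p ρ F G} {Adm : Matrix D.R D.R ℤ → Prop} {Q : ℤ} (h : AM D Adm Q)

include h

theorem Q_ne : Q ≠ 0 := by
  rintro rfl
  exact absurd h.Q3 (by decide)

theorem two_le : 2 ≤ Q.natAbs := by
  obtain ⟨e, he, h1⟩ := h.Qp
  rw [h1]
  exact (Fact.out : p.Prime).two_le.trans (Nat.le_self_pow he.ne' p)

theorem p_ne : p ≠ 3 := by
  rintro rfl
  obtain ⟨e, he, h1⟩ := h.Qp
  have h2 : (3 : ℤ) ∣ Q := Int.natAbs_dvd_natAbs.1 (h1 ▸ dvd_pow_self 3 he.ne')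
  have := h.Q3
  omega

/-- the Weyl group is the symmetric group -/
noncomputable def pw : D.W ≃* Perm D.R :=
  MulEquiv.ofBijective
    ({ toFun := fun w => (h.wm w).choose
       map_one' := pm_inj (by rw [← (h.wm 1).choose_spec, D.Wm_one, spm_one])
       map_mul' := fun v w => pm_inj (by
         rw [← pm_mul, ← (h.wm v).choose_spec, ← (h.wm w).choose_spec, ← (h.wm (v * w)).choose_spec, D.Wm_mul]) } :
      D.W →* Perm D.R)
    ⟨fun v w e => D.Wm_injective (by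
      rw [(h.wm v).choose_spec, (h.wm w).choose_spec]
      exact congrArg (spm · 1) e), fun π => by
      obtain ⟨w, hw⟩ := h.ex π
      exact ⟨w, pm_inj ((h.wm w).choose_spec.symm.trans hw)⟩⟩

theorem Wm_eq (w : D.W) : D.Wm w = spm (h.pw w) 1 := (h.wm w).choose_spec

theorem Wm_symm (π : Perm D.R) : D.Wm (h.pw.symm π) = spm π 1 := by rw [h.Wm_eq, MulEquiv.apply_symm_apply]

/-- the permutation of `F` -/
noncomputable def τ : Perm D.R := h.mx.choose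

theorem Mx_eq : D.Mx = Q • spm h.τ 1 := h.mx.choose_spec

/-- the permutation of `w F` -/
noncomputable def ty (w : D.W) : Perm D.R := h.pw w * h.τ

theorem WM_eq (w : D.W) : D.Wm w * D.Mx = Q • spm (h.ty w) 1 := by
  rw [h.Wm_eq, h.Mx_eq, Matrix.mul_smul, pm_mul, ty]

theorem ty_mul (u w : D.W) : h.ty (u * w) = h.pw u * h.ty w := by rw [ty, ty, map_mul, mul_assoc]

/-- the element with a given type -/
noncomputable def of (σ : Perm D.R) : D.W := h.pw.symm (σ * h.τ⁻¹)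

theorem ty_of (σ : Perm D.R) : h.ty (h.of σ) = σ := by rw [ty, of, MulEquiv.apply_symm_apply, inv_mul_cancel_right]

theorem pw_Fw (w : D.W) : h.pw (D.Fw w) = h.τ * h.pw w * h.τ⁻¹ := by
  have h1 := D.Mx_Wm w
  rw [h.WM_eq, h.Mx_eq, h.Wm_eq, Matrix.smul_mul, pm_mul] at h1
  rw [smul_pm_inj h.Q_ne h1, ty, mul_inv_cancel_right]

theorem tc_iff {v w w' : D.W} : Tc D v w w' ↔ h.ty w' * h.pw v = h.pw v * h.ty w := by
  rw [Tc, ← h.pw.injective.eq_iff, map_mul, map_mul, h.pw_Fw, ty, ty, ← mul_assoc, ← mul_assoc, ← mul_assoc,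
    mul_inv_eq_iff_eq_mul]

theorem mem_CW {v w : D.W} : v ∈ CW D w ↔ h.ty w * h.pw v = h.pw v * h.ty w := h.tc_iff

theorem fx_iff {w : D.W} {c : Lbl D} : Fx D w c ↔ ∀ i, c (h.ty w i) ^ Q = c i := by
  rw [Fx, h.WM_eq]
  exact chr_pm_iff _ _ _ _

theorem rel_iff {u : D.W} {c c' : Lbl D} : Rel D u c c' ↔ ∀ i, c' (h.pw u i) = c i := by
  have h1 := chr_pm_iff 1 (h.pw u) c c'
  simp only [one_smul, zpow_one] at h1
  rw [PP.Rel, h.Wm_eq]
  exact h1

omit h in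
theorem tr_iff {z : ℤ} {π : Perm D.R} {c c' : Lbl D} : Tr D (z • spm π 1) c c' ↔ ∀ i, c' (π i) ^ z = c i :=
  chr_pm_iff _ _ _ _

theorem sg_eq (w : D.W) : sg D w = ((Perm.sign (h.pw w) : ℤ) : ℂ) := by
  rw [sg, h.Wm_eq, det_spm]
  simp

theorem admC (w₀ : D.W) : AdmC D Adm w₀ := by
  intro α A _ hA
  obtain ⟨j, s, π, rfl⟩ := h.adm A hA
  refine ⟨h.pw.symm π⁻¹, ?_⟩
  rw [h.Wm_symm, Matrix.mul_smul, pm_mul, inv_mul_cancel, spm_one, Matrix.smul_mul, Matrix.mul_smul, Matrix.one_mul,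
    Matrix.mul_one]

theorem eq_one {K : Type*} [Group K] {x : K} (h1 : x ^ Q = x) (h3 : x ^ 3 = 1) : x = 1 := by
  obtain ⟨m, hm⟩ := h.Q3
  have h2 : x ^ (Q + 1) = 1 := by rw [hm, _root_.zpow_mul, zpow_ofNat, h3, _root_.one_zpow]
  rw [_root_.zpow_add_one, h1] at h2
  rwa [pow_succ, pow_two, h2, one_mul] at h3

theorem cop [Fintype ↥(GF F G)] {S : Type} [Group S] (s : Sit D Adm S) {f : Fr D} (hA : Api f) : s.Cop := by
  constructor
  · refine s.idx_of_lbl hA fun cl h1 h2 h3 => funext fun i => h.eq_one ?_ (congrFun h3 i)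
    have h4 := h.rel_iff.1 (h1 (h.pw.symm (h.ty 1))) i
    rw [MulEquiv.apply_symm_apply] at h4
    have h5 := h.fx_iff.1 h2 i
    rwa [h4] at h5
  · refine s.ker_of_tor fun t h1 h2 h3 => funext fun i => h.eq_one ?_ (congrFun h3 i)
    have h4 : ∀ i j, t i = t j := fun i j => by
      by_cases h5 : i = j
      · rw [h5]
      obtain ⟨a, ha, h6⟩ := h.rt' i j h5
      have h7 := h1 a ha
      rwa [h6, chr_sub, chr_single, chr_single, mul_inv_eq_one] at h7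
    have h5 := congrFun h2 (h.τ i)
    rw [mon_apply, h.Mx_eq, show (Q • spm h.τ 1) (h.τ i) = Q • Pi.single i 1 from ?_, chr_zsmul, chr_single] at h5
    · rw [h5, h4 _ i]
    · funext j
      rw [Matrix.smul_apply, spm_apply, Pi.smul_apply, Pi.single_apply]
      simp [eq_comm]

end AM

end Cfsg.Agent.KZ.ClM
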