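import Mathlib
import Cfsg.Prelude.Def_LieTypeDatum
import Cfsg.Agent.H451.Tor.Rows
import Cfsg.Agent.S2689

/-!
# KZ: the automorphisms of `PSp₂(q) = PSL₂(q)` (helper68)
-/

set_option autoImplicit false

namespace Cfsg.Agent.KZ.ClM

open Cfsg Matrix Cfsg.Agent.H451.Tor

variable {F : Type} [Field F]

/-- reindexing of invertible matrices -/
def reix (g : GL (Fin 2) F) : GL (Fin 1 ⊕ Fin 1) F :=
  Units.map (reindexRingEquiv F (finSumFinEquiv (m := 1) (n := 1)).symm).toMonoidHom g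

theorem reix_mem (g : GL (Fin 2) F) : reix g ∈ GSp 1 F := by
  refine ⟨GeneralLinearGroup.det g, fun u v => ?_⟩
  have h1 : ∀ a b, (reix g : Matrix (Fin 1 ⊕ Fin 1) (Fin 1 ⊕ Fin 1) F) a b =
      (g : Matrix (Fin 2) (Fin 2) F) (finSumFinEquiv a) (finSumFinEquiv b) := fun a b => rfl
  have h2 : finSumFinEquiv (m := 1) (n := 1) (Sum.inl 0) = 0 := rfl
  have h3 : finSumFinEquiv (m := 1) (n := 1) (Sum.inr 0) = 1 := rfl
  simp [sympForm, Matrix.J, dotProduct, mulVec, h1, h2, h3, det_fin_two]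
  ring

theorem ind_of {g : GL (Fin 2) F} {σ : F ≃+* F}
    {β : ProjectiveSpecialLinearGroup (Fin 2) F ≃* ProjectiveSpecialLinearGroup (Fin 2) F}
    (h : IsInducedBySemilinearPSL g σ β) :
    IsInducedBySemilinearPSp (reix g) σ (MulAut.congr (pspOne F).symm β) := by
  intro s s' h1
  have h2 := h (spTwo F s) (spTwo F s') (by
    show reindex finSumFinEquiv finSumFinEquiv (s' : Matrix (Fin 1 ⊕ Fin 1) (Fin 1 ⊕ Fin 1) F) = _
    rw [h1]
    show reindexRingEquiv F finSumFinEquiv _ = _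
    rw [map_mul, map_mul]
    congr 2
    · exact (reindexRingEquiv F (finSumFinEquiv (m := 1) (n := 1))).apply_symm_apply _
    · exact (reindexRingEquiv F (finSumFinEquiv (m := 1) (n := 1))).apply_symm_apply _)
  show (pspOne F).symm (β (pspOne F (QuotientGroup.mk s))) = _
  rw [MulEquiv.symm_apply_eq]
  exact h2

theorem ind_it {β : ProjectiveSpecialLinearGroup (Fin 2) F ≃* ProjectiveSpecialLinearGroup (Fin 2) F}
    (h : IsInverseTransposeAutPSL β) :
    IsInducedBySemilinearPSL (GeneralLinearGroup.mkOfDetNeZero !![0, 1; -1, 0] (by simp [det_fin_two]))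
      (RingEquiv.refl F) β := by
  intro s s' h1
  refine h s s' ?_
  rw [h1, Units.mul_inv_eq_iff_eq_mul, Matrix.SpecialLinearGroup.coe_inv, adjugate_fin_two]
  ext i j
  fin_cases i <;> fin_cases j <;> simp [mul_apply]

/-- **All automorphisms of `PSp₂(q)` are semilinear.** -/
theorem gammaPSp_one [Fintype F] (h : 4 ≤ Fintype.card F) : gammaPSp 1 F = ⊤ := by
  obtain ⟨p, hp⟩ := CharP.exists F
  obtain ⟨f, hf, hc⟩ := FiniteField.card F p
  have := Fact.mk hf
  have h1 := S2689.result (F := F) (p := p) (f := f) hc f.2 (n := 2) le_rfl fun _ => h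
  have h2 : ⊤ ≤ (gammaPSp 1 F).comap (MulAut.congr (pspOne F).symm).toMonoidHom := by
    rw [← h1]
    refine sup_le ((Subgroup.closure_le _).2 ?_) ((Subgroup.closure_le _).2 ?_)
    · rintro β ⟨g, σ, hβ⟩
      exact Subgroup.subset_closure ⟨_, _, reix_mem g, ind_of hβ⟩
    · intro β hβ
      exact Subgroup.subset_closure ⟨_, _, reix_mem _, ind_of (ind_it hβ)⟩
  rw [eq_top_iff]
  intro α _
  obtain ⟨β, rfl⟩ := (MulAut.congr (pspOne F).symm).surjective α
  exact h2 (Subgroup.mem_top β)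

end Cfsg.Agent.KZ.ClM
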