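import Cfsg.Agent.KZ.ClM.Blk
import Cfsg.Agent.KZ.Dat.GlH
import Cfsg.Agent.KZ.Ch3X.Gen
import Cfsg.Agent.S2601
import Cfsg.Agent.S2602
import Cfsg.Agent.S2603

/-!
# KZ, type `A ^ (-ε)`: the data `GL` and `GU`, the outer automorphisms (helper68)
-/

set_option autoImplicit false
set_option linter.unusedSectionVars false

namespace Cfsg.Agent.KZ.ClM

open Cfsg Cfsg.Agent.DL Cfsg.Agent.DL.PP Cfsg.Agent.KZ.Lie Cfsg.Agent.KZ.Dat Cfsg.Agent.KZ.Ch3X Cfsg.Agent.KZ.Cl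
  Cfsg.Agent.KZ.ClA Matrix Equiv

theorem oc3_of_hom {S C : Type} [Group S] [Group C] [IsCyclic C] (φ : Out S →* C) (h : ¬ 3 ∣ Nat.card φ.ker) :
    OC3 S := fun X hX => by
  refine isCyclic_of_injective (φ.comp X.subtype) ((injective_iff_map_eq_one _).2 fun x hx => ?_)
  obtain ⟨j, hj⟩ := hX x
  have h1 : x ^ Nat.card φ.ker = 1 :=
    Subtype.ext (congrArg Subtype.val (pow_card_eq_one' (x := (⟨x, hx⟩ : φ.ker))) :)
  exact eq_one_of_zpow hj (n := Nat.card φ.ker) (by rw [zpow_natCast, h1]) fun h2 => h (Int.natCast_dvd_natCast.1 h2)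

theorem oc3_of_hom' {S : Type} [Group S] {f : ℕ} (φ : Out S →* Multiplicative (ZMod f × ZMod 2))
    (h : ¬ 3 ∣ Nat.card φ.ker) : OC3 S := fun X hX => by
  refine isCyclic_of_injective ((AddMonoidHom.toMultiplicative (AddMonoidHom.fst (ZMod f) (ZMod 2))).comp
    (φ.comp X.subtype)) ((injective_iff_map_eq_one _).2 fun x hx => ?_)
  obtain ⟨j, hj⟩ := hX x
  have h2 : φ x = 1 := by
    refine eq_one_of_zpow (j := j) (by rw [← map_pow, ← Subgroup.coe_pow, hj, Subgroup.coe_one, map_one]) (n := 2) ?_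
      (by decide)
    have h3 : (φ x).toAdd.1 = 0 := hx
    rw [← toAdd_eq_zero, toAdd_zpow]
    refine Prod.ext (by rw [Prod.smul_fst, h3, smul_zero]; rfl) ?_
    exact (by decide : ∀ y : ZMod 2, (2 : ℤ) • y = 0) _
  have h1 : x ^ Nat.card φ.ker = 1 :=
    Subtype.ext (congrArg Subtype.val (pow_card_eq_one' (x := (⟨x, h2⟩ : φ.ker))) :)
  exact eq_one_of_zpow hj (n := Nat.card φ.ker) (by rw [zpow_natCast, h1]) fun h2 => h (Int.natCast_dvd_natCast.1 h2)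

section Sit

variable {p : ℕ} [Fact p.Prime] {k : Type} [Field k] [CharP k p] {Y : Type} [Group Y] {N : Type} [Fintype N]
  [DecidableEq N] {ρ : Y →* GL N k} {F : MulAut Y} {G : Subgroup Y} [IsAlgClosed k] {D : Datum p ρ F G}
  {Adm : Matrix D.R D.R ℤ → Prop} {S T : Type} [Group S] [Group T]

/-- transport of a situation along an isomorphism -/
def sitCongr (s : Sit D Adm S) (e : S ≃* T) : Sit D Adm T :=
  { s with
    π := e.toMonoidHom.comp s.π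
    surj := e.surjective.comp s.surj
    ker := fun h => e.map_eq_one_iff.trans (s.ker h)
    aut := fun σ => by
      obtain ⟨g, hg, α, A, h1, h2, h3⟩ := s.aut (MulAut.congr e.symm σ)
      refine ⟨g, hg, α, A, h1, h2, fun h => ?_⟩
      obtain ⟨h', h4, h5⟩ := h3 h
      exact ⟨h', h4, (congrArg e h5).trans (e.apply_symm_apply _)⟩ }

end Sit

theorem hasA_congr {m : ℕ} {Q : ℤ} {S T : Type} [Group S] [Group T] (h : HasA m Q S) (e : S ≃* T) : HasA m Q T := by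
  obtain ⟨p, _, k, _, _, _, Y, _, N, _, _, ρ, F, G, D, _, Adm, s, h1, h2, ⟨h3⟩⟩ := h
  exact ⟨p, _, k, _, ‹_›, ‹_›, Y, _, N, _, _, ρ, F, G, D, ‹_›, Adm, sitCongr s e, h1, h2,
    ⟨{ h3 with cen := fun z hz => h3.cen z (e.map_eq_one_iff.1 hz) }⟩⟩

/-- the theorem on the B-like data -/
def BoxB : Prop :=
  ∀ {p : ℕ} [Fact p.Prime] {k : Type} [Field k] [CharP k p] {Y : Type} [Group Y] {N : Type} [Fintype N]
    [DecidableEq N] {ρ : Y →* GL N k} {F : MulAut Y} {G : Subgroup Y} [IsAlgClosed k] {D : Datum p ρ F G}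
    {Adm : Matrix D.R D.R ℤ → Prop} {w₀ : D.W} {n a : ℕ} (_ : BLike D Adm w₀ n a) (f : Fr D) [Fintype ↥(GF F G)],
    Api f → Mc f w₀ → p ≠ 3 → ∀ {S : Type} [Group S] (s : Sit D Adm S), s.Cop → AdmC D Adm w₀ → RegC D w₀ → OC3 S →
      ¬ IsMulCommutative S → RowAt S

theorem rowAt_of (hB : BoxB) (hA : BoxApi) {m : ℕ} {Q : ℤ} {S T : Type} [Group S] [Group T] (h : HasM m Q T) (hm : 2 ≤ m)
    (ho : OC3 T) (e : S ≃* T) (hS : ¬ IsMulCommutative S) : RowAt S := by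
  obtain ⟨p, _, k, _, _, _, Y, _, N, _, _, ρ, F, G, D, _, Adm, s, h1, h, -⟩ := h
  obtain ⟨r, hr, ⟨ε⟩⟩ := exists_ix D.R
  obtain ⟨f⟩ := nonempty_fr D
  have h2 := hA f s.qs
  exact hB (h.blike ε hr (by omega)) f h2 (h.mc ε hr f) h.p_ne (sitCongr s e.symm) (h.cop _ h2) (h.admC _) (h.regC ε hr)
    (ho.congr e) hS

variable {n p : ℕ} [Fact p.Prime] {F : Type} [Field F] [Fintype F] {e : ℕ}

theorem oc3_psl (hF : Fintype.card F = p ^ e) (he : 0 < e) (h3 : 3 ∣ p ^ e + 1) (hn : 1 ≤ n)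
    (h4 : n = 1 → 4 ≤ Fintype.card F) : OC3 (ProjectiveSpecialLinearGroup (Fin (n + 1)) F) := by
  have h1 := pow_pos (Fact.out : p.Prime).pos e
  have h2 : ∀ m, ¬ 3 ∣ Nat.gcd m (p ^ e - 1) := fun m h => by
    have := h.trans (Nat.gcd_dvd_right _ _)
    omega
  rcases hn.eq_or_lt with rfl | hn
  · obtain ⟨φ, -, -, h5⟩ := S2602.result he hF (hF ▸ h4 rfl)
    exact oc3_of_hom φ (h5 ▸ h2 _)
  · obtain ⟨φ, -, -, h5⟩ := S2601.result he hF (n := n + 1) (by omega)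
    exact oc3_of_hom' φ (h5 ▸ h2 _)

theorem oc3_psu (hF : Fintype.card F = (p ^ e) ^ 2) (he : 0 < e) (h3 : 3 ∣ p ^ e - 1) (hn : 2 ≤ n)
    (h4 : ¬ (n = 2 ∧ p ^ e = 2)) : OC3 (PSU (n + 1) F (p ^ e)) := by
  have h1 := pow_pos (Fact.out : p.Prime).pos e
  obtain ⟨φ, -, -, h5⟩ := S2603.result he rfl hF (n := n + 1) (by omega) fun h => h4 ⟨by omega, h.2⟩
  refine oc3_of_hom φ (h5 ▸ fun h => ?_)
  have := h.trans (Nat.gcd_dvd_right _ _)
  omega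

/-- `PSL_n(q)`, `q ≡ 2 mod 3` -/
def PslM (S : Type) [Group S] : Prop :=
  ∃ (F : Type) (_ : Field F) (_ : Fintype F) (n : ℕ), 3 ∣ Fintype.card F + 1 ∧
    2 ≤ n ∧ (n = 2 → 4 ≤ Fintype.card F) ∧ Nonempty (S ≃* ProjectiveSpecialLinearGroup (Fin n) F)

/-- `PSU_n(q)`, `q ≡ 1 mod 3` -/
def PsuM (S : Type) [Group S] : Prop :=
  ∃ (F : Type) (_ : Field F) (_ : Fintype F) (n q : ℕ), 3 ∣ q - 1 ∧ ¬ 3 ∣ q ∧
    Fintype.card F = q ^ 2 ∧ 3 ≤ n ∧ Nonempty (S ≃* PSU n F q)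

theorem rowAt_pslM (hB : BoxB) (hA : BoxApi) {S : Type} [Group S] (hS : ¬ IsMulCommutative S) (h : PslM S) : RowAt S := by
  obtain ⟨F, _, _, n, h1, h2, h3, ⟨φ⟩⟩ := h
  refine rowAt_of hB hA (hasM_psl h2 h3 h1) h2 ?_ φ hS
  obtain ⟨n, rfl⟩ : ∃ m, n = m + 1 := ⟨n - 1, by omega⟩
  obtain ⟨p, _, e, -, -, -, -, -, -, he, hF⟩ := hasL F
  exact oc3_psl hF he (hF ▸ h1) (by omega) fun h => h3 (by omega)

theorem rowAt_psuM (hB : BoxB) (hA : BoxApi) {S : Type} [Group S] (hS : ¬ IsMulCommutative S) (h : PsuM S) : RowAt S := by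
  obtain ⟨F, _, _, n, q, h1, h0, h2, h3, ⟨φ⟩⟩ := h
  refine rowAt_of hB hA (hasM_psu h2 h3 (by omega)) (by omega) ?_ φ hS
  obtain ⟨n, rfl⟩ : ∃ m, n = m + 1 := ⟨n - 1, by omega⟩
  obtain ⟨p, _, e, -, -, -, -, -, -, he, rfl⟩ := hasU F h2
  exact oc3_psu h2 he h1 (by omega) fun h => by rw [h.2] at h1; omega

end Cfsg.Agent.KZ.ClM
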