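import Cfsg.Agent.KZ.ClM.Frm
import Cfsg.Agent.KZ.Cl.Defs

/-!
# KZ, type `A ^ (-ε)`: the blocks and `BLike` (helper68)
-/

set_option autoImplicit false
set_option linter.unusedSectionVars false

namespace Cfsg.Agent.KZ.ClM

open Cfsg Cfsg.Agent.DL Cfsg.Agent.DL.PP Cfsg.Agent.KZ.Lie Cfsg.Agent.KZ.Dat Cfsg.Agent.KZ.Cl Cfsg.Agent.KZ.Sym Matrix Equiv

section Two

variable {R α : Type} [Fintype R] [DecidableEq R] [Fintype α] [DecidableEq α] (A B : α ↪ R)

/-- the pointwise stabiliser of two families -/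
def PU : Subgroup (Perm R) where
  carrier := {u | (∀ i, u (A i) = A i) ∧ ∀ i, u (B i) = B i}
  one_mem' := ⟨fun _ => rfl, fun _ => rfl⟩
  mul_mem' ha hb := ⟨fun i => by rw [Perm.mul_apply, hb.1, ha.1], fun i => by rw [Perm.mul_apply, hb.2, ha.2]⟩
  inv_mem' ha := ⟨fun i => Perm.inv_eq_iff_eq.2 (ha.1 i).symm, fun i => Perm.inv_eq_iff_eq.2 (ha.2 i).symm⟩

/-- the permutations of a family -/
noncomputable abbrev J : Perm α →* Perm R := Perm.viaEmbeddingHom A

theorem J_in (g : Perm α) (i : α) : J A g (A i) = A (g i) := Perm.viaEmbedding_apply g A i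

theorem J_out (g : Perm α) {x : R} (hx : x ∉ Set.range A) : J A g x = x := Perm.viaEmbedding_apply_of_notMem g A x hx

theorem comm_J (g : Perm α) {u : Perm R} (hu : ∀ i, u (A i) = A i) : Commute (J A g) u := by
  refine Equiv.ext fun x => ?_
  rw [Perm.mul_apply, Perm.mul_apply]
  by_cases hx : x ∈ Set.range A
  · obtain ⟨i, rfl⟩ := hx
    rw [hu, J_in, hu]
  · rw [J_out A g hx, J_out]
    rintro ⟨i, hi⟩
    exact hx ⟨i, u.injective ((hu i).trans hi)⟩

/-- the vector with the entries `z`, `-z`, `0` -/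
noncomputable def vc (z : α → ℤ) : R → ℤ := fun x => Function.extend A z 0 x - Function.extend B z 0 x

variable {A B} (hd : ∀ i j, A i ≠ B j)

include hd

theorem A_out (i : α) : A i ∉ Set.range B := fun ⟨j, hj⟩ => hd i j hj.symm

theorem B_out (i : α) : B i ∉ Set.range A := fun ⟨j, hj⟩ => hd j i hj

theorem vc_A (z : α → ℤ) (i : α) : vc A B z (A i) = z i := by
  rw [vc, A.injective.extend_apply, Function.extend_apply' _ _ _ (A_out hd i)]
  simp

theorem vc_B (z : α → ℤ) (i : α) : vc A B z (B i) = -z i := by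
  rw [vc, B.injective.extend_apply, Function.extend_apply' _ _ _ (B_out hd i)]
  simp

omit hd in
theorem vc_out (z : α → ℤ) {x : R} (h : x ∉ Set.range A) (h' : x ∉ Set.range B) : vc A B z x = 0 := by
  rw [vc, Function.extend_apply' _ _ _ h, Function.extend_apply' _ _ _ h']
  simp

theorem prod_A (g g' : Perm α) {u : Perm R} (hu : u ∈ PU A B) (i : α) : (J A g * J B g' * u) (A i) = A (g i) := by
  rw [Perm.mul_apply, Perm.mul_apply, hu.1, J_out B g' (A_out hd i), J_in]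

theorem prod_B (g g' : Perm α) {u : Perm R} (hu : u ∈ PU A B) (i : α) : (J A g * J B g' * u) (B i) = B (g' i) := by
  rw [Perm.mul_apply, Perm.mul_apply, hu.2, J_in, J_out A g (B_out hd _)]

omit hd in
theorem exists_perm {π : Perm R} (h : ∀ i, π (A i) ∈ Set.range A) : ∃ g : Perm α, ∀ i, π (A i) = A (g i) := by
  choose g hg using h
  exact ⟨Equiv.ofBijective g (Finite.injective_iff_bijective.1 fun i j e =>
    A.injective (π.injective (by rw [← hg, ← hg, e]))), fun i => (hg i).symm⟩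

theorem exists_dec {π : Perm R} {g g' : Perm α} (h : ∀ i, π (A i) = A (g i)) (h' : ∀ i, π (B i) = B (g' i)) :
    ∃ u ∈ PU A B, π = J A g * J B g' * u := by
  refine ⟨(J A g * J B g')⁻¹ * π, ⟨fun i => ?_, fun i => ?_⟩, (mul_inv_cancel_left _ _).symm⟩
  · rw [Perm.mul_apply, Perm.inv_eq_iff_eq, h, ← prod_A hd g g' (one_mem _), mul_one]
  · rw [Perm.mul_apply, Perm.inv_eq_iff_eq, h', ← prod_B hd g g' (one_mem _), mul_one]

omit hd in
theorem out_of {π : Perm R} {g : Perm α} (h : ∀ i, π (A i) = A (g i)) {x : R} (hx : x ∉ Set.range A) :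
    π x ∉ Set.range A := by
  rintro ⟨i, hi⟩
  obtain ⟨j, rfl⟩ := g.surjective i
  exact hx ⟨j, π.injective ((h j).trans hi)⟩

theorem vc_perm {π : Perm R} {g g' : Perm α} (h : ∀ i, π (A i) = A (g i)) (h' : ∀ i, π (B i) = B (g' i)) {z : α → ℤ}
    (h1 : ∀ i, z (g i) = z i) (h2 : ∀ i, z (g' i) = z i) (x : R) : vc A B z (π x) = vc A B z x := by
  by_cases hx : x ∈ Set.range A
  · obtain ⟨i, rfl⟩ := hx
    rw [h, vc_A hd, vc_A hd, h1]
  by_cases hx' : x ∈ Set.range B
  · obtain ⟨i, rfl⟩ := hx'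
    rw [h', vc_B hd, vc_B hd, h2]
  rw [vc_out z hx hx', vc_out z (out_of h hx) (out_of h' hx')]

theorem vc_cases (z : α → ℤ) (x : R) : (∃ i, x = A i ∧ vc A B z x = z i) ∨ (∃ i, x = B i ∧ vc A B z x = -z i) ∨
    (x ∉ Set.range A ∧ x ∉ Set.range B ∧ vc A B z x = 0) := by
  by_cases hx : x ∈ Set.range A
  · obtain ⟨i, rfl⟩ := hx
    exact .inl ⟨i, rfl, vc_A hd z i⟩
  by_cases hx' : x ∈ Set.range B
  · obtain ⟨i, rfl⟩ := hx'
    exact .inr (.inl ⟨i, rfl, vc_B hd z i⟩)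
  exact .inr (.inr ⟨hx, hx', vc_out z hx hx'⟩)

end Two

theorem eq_one_of_zpow {K : Type*} [Group K] {x : K} {j : ℕ} (h1 : x ^ 3 ^ j = 1) {n : ℤ} (h2 : x ^ n = 1)
    (h3 : ¬ 3 ∣ n) : x = 1 := by
  have h4 : Nat.Coprime (3 ^ j) n.natAbs :=
    ((Nat.Prime.coprime_iff_not_dvd Nat.prime_three).2 fun h => h3 (Int.natAbs_dvd_natAbs.1 h)).pow_left j
  exact orderOf_eq_one_iff.1 (Nat.eq_one_of_dvd_coprimes h4 (orderOf_dvd_of_pow_eq_one h1)
    (Int.natCast_dvd.1 (orderOf_dvd_iff_zpow_eq_one.2 h2)))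

section Sw

variable {R : Type} [Fintype R] [DecidableEq R] {m r : ℕ} (ε : Ix m r ≃ R)

theorem exists_idx {y : R} (h : sw ε y ≠ y) : ∃ i, y = ia ε i ∨ y = ib ε i := by
  rcases cases ε y with ⟨i, rfl⟩ | ⟨i, rfl⟩ | ⟨i, rfl⟩
  · exact ⟨i, .inl rfl⟩
  · exact ⟨i, .inr rfl⟩
  · simp at h

theorem idx_rel {y y' : R} {i : Fin m} (h : y = ia ε i ∨ y = ib ε i) (h' : y' = ia ε i ∨ y' = ib ε i) :
    y = y' ∨ y = sw ε y' := by
  rcases h with rfl | rfl <;> rcases h' with rfl | rfl <;> simp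

/-- equivariant extension -/
theorem exists_equiv {α : Type} [Finite α] {A A' : α → R} (h1 : Function.Injective A) (h2 : ∀ i j, sw ε (A i) ≠ A j)
    (h1' : Function.Injective A') (h2' : ∀ i j, sw ε (A' i) ≠ A' j) :
    ∃ π : Perm R, sw ε * π = π * sw ε ∧ ∀ i, π (A i) = A' i := by
  classical
  choose g hg using fun i => exists_idx ε (h2 i i)
  choose g' hg' using fun i => exists_idx ε (h2' i i)
  obtain ⟨ρ, hρ⟩ := Perm.exists_extending_pair g g'
    (fun i j e => h1 ((idx_rel ε (hg i) (e ▸ hg j)).resolve_right (h2 j i).symm))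
    (fun i j e => h1' ((idx_rel ε (hg' i) (e ▸ hg' j)).resolve_right (h2' j i).symm))
  let l : Perm R := ε.permCongr (Equiv.sumCongr (Equiv.sumCongr ρ ρ) (Equiv.refl (Fin r)))
  have la : ∀ i, l (ia ε i) = ia ε (ρ i) := fun i => by simp [l, ia]
  have lb : ∀ i, l (ib ε i) = ib ε (ρ i) := fun i => by simp [l, ib]
  have lc : ∀ i, l (ε (.inr i)) = ε (.inr i) := fun i => by simp [l]
  have h3 : ∀ y, sw ε (l y) = l (sw ε y) := fun y => by
    rcases cases ε y with ⟨i, rfl⟩ | ⟨i, rfl⟩ | ⟨i, rfl⟩ <;> simp [la, lb, lc]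
  have h4 : ∀ i, l (A i) = A' i ∨ l (A i) = sw ε (A' i) := fun i => by
    refine idx_rel ε ?_ (hg' i)
    rw [← hρ]
    exact (hg i).imp (fun h => by rw [h, la]) fun h => by rw [h, lb]
  let T : R → Prop := fun y => ∃ i, l (A i) ≠ A' i ∧ (y = A' i ∨ y = sw ε (A' i))
  have hT : ∀ y, T y → T (sw ε y) := by
    rintro _ ⟨i, h5, rfl | rfl⟩
    · exact ⟨i, h5, .inr rfl⟩
    · exact ⟨i, h5, .inl (sw_sw ε _)⟩
  have hT' : ∀ y, ¬ T y → ¬ T (sw ε y) := fun y h5 h6 => h5 (sw_sw ε y ▸ hT _ h6)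
  let fl : Perm R := Function.Involutive.toPerm (fun y => if T y then sw ε y else y) fun y => by
    by_cases h5 : T y
    · simp only [if_pos h5, if_pos (hT y h5), sw_sw]
    · simp only [if_neg h5]
  have hfl : ∀ y, fl y = if T y then sw ε y else y := fun _ => rfl
  refine ⟨fl * l, Equiv.ext fun y => ?_, fun i => ?_⟩
  · simp only [Perm.mul_apply, hfl, ← h3]
    by_cases h5 : T (l y)
    · rw [if_pos h5, if_pos (hT _ h5)]
    · rw [if_neg h5, if_neg (hT' _ h5)]
  · rw [Perm.mul_apply, hfl]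
    by_cases h5 : l (A i) = A' i
    · rw [h5, if_neg]
      rintro ⟨j, h6, h7 | h7⟩
      · exact h6 (h1' h7 ▸ h5)
      · exact h2' j i h7.symm
    · rw [if_pos ⟨i, h5, h4 i⟩, (h4 i).resolve_left h5, sw_sw]

theorem eq_one_of_fix (hr : r ≤ 1) {π : Perm R} (h : ∀ x, sw ε x ≠ x → π x = x) : π = 1 := Equiv.ext fun x => by
  by_cases hx : sw ε x = x
  · by_contra h3
    exact h3 (π.injective (h _ fun h4 => h3 (eq_of_fix ε hr h4 hx)))
  · exact h x hx

/-- the coordinates of the labels -/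
def LL : Matrix (Fin m) R ℤ := of fun i x => (if ia ε i = x then 1 else 0) - if ib ε i = x then 1 else 0

theorem LL_apply (i : Fin m) (x : R) : LL ε i x = (if ia ε i = x then 1 else 0) - if ib ε i = x then 1 else 0 := rfl

theorem LL_mulVec (v : R → ℤ) (i : Fin m) : (LL ε *ᵥ v) i = v (ia ε i) - v (ib ε i) := by
  simp [mulVec, dotProduct, LL_apply, sub_mul]

theorem LL_pm (π : Perm R) (i : Fin m) (x : R) : (LL ε * spm π 1) i x = LL ε i (π x) := by
  have h1 := vecMul_spm π 1 (LL ε i) x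
  rw [Pi.one_apply, Units.val_one, mul_one] at h1
  exact h1

theorem spm_LL (π : Perm (Fin m)) (t : Fin m → ℤˣ) (b : Fin m) (x : R) : (spm π t * LL ε) (π b) x = t b * LL ε b x :=
  spm_mulVec π t (fun a => LL ε a x) b

/-- the embeddings of a block -/
def eA {α : Type} (e : α ↪ Fin m) : α ↪ R := ⟨fun i => ia ε (e i), fun _ _ h => e.injective ((ia_inj ε).1 h)⟩

/-- the embeddings of a block -/
def eB {α : Type} (e : α ↪ Fin m) : α ↪ R := ⟨fun i => ib ε (e i), fun _ _ h => e.injective ((ib_inj ε).1 h)⟩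

theorem vecMul_LL {α : Type} [Fintype α] [DecidableEq α] (e : α ↪ Fin m) {z : Fin m → ℤ} (h1 : ∀ i, z (e i) = 1)
    (h0 : ∀ i, i ∉ Set.range e → z i = 0) : z ᵥ* LL ε = vc (eA ε e) (eB ε e) 1 := by
  have hd : ∀ i j, eA ε e i ≠ eB ε e j := fun i j => ia_ne_ib ε _ _
  funext x
  rcases cases ε x with ⟨i, rfl⟩ | ⟨i, rfl⟩ | ⟨i, rfl⟩
  · rw [show (z ᵥ* LL ε) (ia ε i) = z i by simp [vecMul, dotProduct, LL_apply]]
    by_cases hi : i ∈ Set.range e
    · obtain ⟨j, rfl⟩ := hi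
      exact (h1 j).trans (vc_A hd 1 j).symm
    · rw [h0 i hi, vc_out _ (fun ⟨j, hj⟩ => hi ⟨j, (ia_inj ε).1 hj⟩) fun ⟨j, hj⟩ => ib_ne_ia ε _ _ hj]
  · rw [show (z ᵥ* LL ε) (ib ε i) = -z i by simp [vecMul, dotProduct, LL_apply]]
    by_cases hi : i ∈ Set.range e
    · obtain ⟨j, rfl⟩ := hi
      rw [h1 j]
      exact (vc_B hd 1 j).symm
    · rw [h0 i hi, vc_out _ (fun ⟨j, hj⟩ => ia_ne_ib ε _ _ hj) fun ⟨j, hj⟩ => hi ⟨j, (ib_inj ε).1 hj⟩, neg_zero]
  · rw [vc_out _ (fun ⟨j, hj⟩ => ia_ne_ic ε _ _ hj) fun ⟨j, hj⟩ => ib_ne_ic ε _ _ hj]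
    simp [vecMul, dotProduct, LL_apply]

end Sw

variable {p : ℕ} [Fact p.Prime] {k : Type} [Field k] [CharP k p] {Y : Type} [Group Y] {N : Type} [Fintype N]
  [DecidableEq N] {ρ : Y →* GL N k} {F : MulAut Y} {G : Subgroup Y} [IsAlgClosed k]

namespace AM

variable {D : Datum p ρ F G} {Adm : Matrix D.R D.R ℤ → Prop} {Q : ℤ} (h : AM D Adm Q) {m r : ℕ} (ε : Ix m r ≃ D.R)

theorem pw_tau (v : D.W) : h.pw (tau D (h.w0 ε) v) = sw ε * h.pw v * sw ε := by
  have h1 := tau_eq_iff.1 (rfl : tau D (h.w0 ε) v = _)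
  rw [h.WM_w0, h.Wm_eq, h.Wm_eq, Matrix.mul_smul, Matrix.smul_mul, pm_mul, pm_mul] at h1
  rw [← smul_pm_inj h.Q_ne h1, mul_assoc, sw_mul_sw, mul_one]

theorem vecMul_Wm (x : D.R → ℤ) (v : D.W) (i : D.R) : (x ᵥ* D.Wm v) i = x (h.pw v i) := by
  rw [h.Wm_eq, vecMul_spm, Pi.one_apply, Units.val_one, mul_one]

theorem mem_Wl {lam : D.R → ℤ} {v : D.W} : v ∈ Wl D lam ↔ ∀ x, lam (h.pw v x) = lam x := by
  show D.Wm v *ᵥ lam = lam ↔ _
  rw [h.Wm_eq]
  refine ⟨fun h1 x => by rw [← pm_apply (h.pw v) lam x, h1], fun h1 => funext fun x => ?_⟩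
  obtain ⟨y, rfl⟩ := (h.pw v).surjective x
  rw [pm_apply, h1]

/-- labels of `3`-power order -/
theorem pow_succ_eq {c : Lbl D} (hc : Fx D (h.w0 ε) c) (h3 : Is3 D c) (y : D.R) :
    c y ^ (Q + 1) = 1 ∧ c (sw ε y) = (c y)⁻¹ := by
  obtain ⟨j, hj⟩ := h3
  have h1 := h.fx_iff.1 hc
  rw [h.ty_w0] at h1
  have h2 : c y ^ Q = c (sw ε y) := by simpa only [sw_sw] using h1 (sw ε y)
  have h4 : c y ^ (Q + 1) = 1 := by
    refine eq_one_of_zpow (j := j) ?_ (n := Q - 1) ?_ fun h5 => h.not_dvd (Int.natAbs_dvd_natAbs.2 h5)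
    · rw [← zpow_natCast, ← _root_.zpow_mul, mul_comm, _root_.zpow_mul, zpow_natCast,
        show c y ^ 3 ^ j = 1 from congrFun hj y, _root_.one_zpow]
    · rw [← _root_.zpow_mul, show (Q + 1) * (Q - 1) = Q * Q - 1 by ring, _root_.zpow_sub_one, _root_.zpow_mul, h2, h1,
        mul_inv_cancel]
  refine ⟨h4, ?_⟩
  rwa [_root_.zpow_add_one, h2, mul_eq_one_iff_eq_inv] at h4

/-- the block of an embedding -/
noncomputable def blk {α : Type} [Fintype α] [DecidableEq α] {A B : α ↪ D.R} (hd : ∀ i j, A i ≠ B j)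
    (hA : ∀ i, sw ε (A i) = B i) {xv : D.R → ℤ} (hx : xv = vc A B 1) : Blk D (h.w0 ε) α xv :=
  have hB : ∀ i, sw ε (B i) = A i := fun i => by rw [← hA, sw_sw]
  have e1 : ∀ π, h.pw (h.pw.symm π) = π := h.pw.apply_symm_apply
  have e2 : ∀ (g g' : Perm α) (u : D.W), h.pw (h.pw.symm (J A g) * h.pw.symm (J B g') * u) = J A g * J B g' * h.pw u :=
    fun g g' u => by rw [map_mul, map_mul, e1, e1]
  have e3 : ∀ (v : D.W) (g g' : Perm α), (∀ i, h.pw v (A i) = A (g i)) → (∀ i, h.pw v (B i) = B (g' i)) →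
      ∃ u, h.pw u ∈ PU A B ∧ v = h.pw.symm (J A g) * h.pw.symm (J B g') * u := fun v g g' h1 h2 => by
    obtain ⟨u, hu, h3⟩ := exists_dec hd h1 h2
    exact ⟨h.pw.symm u, by rwa [e1], h.pw.injective (by rw [e2, e1, h3])⟩
  have e4 : ∀ (v : D.W) (g g' : Perm α), (∀ i, h.pw v (A i) = A (g i)) → (∀ i, h.pw v (B i) = B (g' i)) →
      xv ᵥ* D.Wm v = xv := fun v g g' h1 h2 => funext fun x => by
    rw [h.vecMul_Wm, hx]
    exact vc_perm hd h1 h2 (fun _ => rfl) (fun _ => rfl) x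
  have e5 : ∀ g : Perm α, sw ε * J B g * sw ε = J A g := fun g => Equiv.ext fun x => by
    rw [Perm.mul_apply, Perm.mul_apply]
    by_cases hx : x ∈ Set.range A
    · obtain ⟨i, rfl⟩ := hx
      rw [hA, J_in, hB, J_in]
    · rw [J_out A g hx, J_out B g fun ⟨i, hi⟩ => hx ⟨i, by rw [← hB, hi, sw_sw]⟩, sw_sw]
  { j := h.pw.symm.toMonoidHom.comp (J A)
    j' := h.pw.symm.toMonoidHom.comp (J B)
    U := (PU A B).comap h.pw.toMonoidHom
    comm := fun g g' => (comm_J A g fun i => J_out B g' (A_out hd i)).map h.pw.symm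
    commU := fun g u hu => by simpa using (comm_J A g hu.1).map h.pw.symm
    commU' := fun g u hu => by simpa using (comm_J B g hu.2).map h.pw.symm
    fix := fun g => e4 _ g 1 (fun i => by rw [← J_in]; exact DFunLike.congr_fun (e1 _) _)
      fun i => (DFunLike.congr_fun (e1 _) _).trans (J_out A g (B_out hd i))
    fix' := fun g => e4 _ 1 g (fun i => (DFunLike.congr_fun (e1 _) _).trans (J_out B g (A_out hd i)))
      fun i => by rw [← J_in]; exact DFunLike.congr_fun (e1 _) _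
    fixU := fun u hu => e4 u 1 1 hu.1 hu.2
    stab := fun v hv => by
      simp only [Pi.sub_apply, h.vecMul_Wm, hx] at hv
      obtain ⟨g, hg⟩ := exists_perm (A := A) (π := h.pw v) fun i => by
        have h1 := hv (A i)
        rw [vc_A hd] at h1
        rcases vc_cases hd 1 (h.pw v (A i)) with ⟨j, h2, -⟩ | ⟨j, -, h2⟩ | ⟨-, -, h2⟩
        · exact ⟨j, h2.symm⟩
        · simp only [h2, Pi.one_apply] at h1; omega
        · simp only [h2, Pi.one_apply] at h1; omega
      obtain ⟨g', hg'⟩ := exists_perm (A := B) (π := h.pw v) fun i => by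
        have h1 := hv (B i)
        rw [vc_B hd] at h1
        rcases vc_cases hd 1 (h.pw v (B i)) with ⟨j, -, h2⟩ | ⟨j, h2, -⟩ | ⟨-, -, h2⟩
        · simp only [h2, Pi.one_apply] at h1; omega
        · exact ⟨j, h2.symm⟩
        · simp only [h2, Pi.one_apply] at h1; omega
      exact ⟨g, g', e3 v g g' hg hg'⟩
    uniq := fun g g' u hu h1 => by
      have h2 : J A g * J B g' * h.pw u = 1 := (e2 g g' u).symm.trans ((congrArg h.pw h1).trans (map_one _))
      have h3 : g' = 1 := Equiv.ext fun i => B.injective ((prod_B hd g g' hu i).symm.trans (DFunLike.congr_fun h2 _))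
      exact ⟨Equiv.ext fun i => A.injective ((prod_A hd g g' hu i).symm.trans (DFunLike.congr_fun h2 _)),
        by rw [h3, map_one]⟩
    tau_d := fun g => (h.mem_CW0 ε).2 (by
      have h1 : h.pw (h.pw.symm (J A g) * h.pw.symm (J B g)) = J A g * J B g := by rw [map_mul, e1, e1]
      refine (congrArg _ h1).trans (Eq.trans ?_ (congrArg (· * _) h1).symm)
      have h2 := (comm_J A g fun i => J_out B g (A_out hd i)).eq
      have h3 : sw ε * J A g = J B g * sw ε := by rw [← e5 g, ← mul_assoc, ← mul_assoc, sw_mul_sw, one_mul]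
      have h4 : sw ε * J B g = J A g * sw ε := by rw [← e5 g, mul_assoc _ (sw ε), sw_mul_sw, mul_one]
      rw [← mul_assoc, h3, mul_assoc, h4, ← mul_assoc, h2])
    tau_j := fun g => .inr (h.pw.injective ((h.pw_tau ε _).trans (by
      show sw ε * h.pw (h.pw.symm _) * sw ε = h.pw (h.pw.symm _)
      rw [e1, e1, e5])))
    tau_U := fun u hu => by
      show h.pw _ ∈ PU A B
      rw [h.pw_tau]
      exact ⟨fun i => by rw [Perm.mul_apply, Perm.mul_apply, hA, show h.pw u (B i) = B i from hu.2 i, hB],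
        fun i => by rw [Perm.mul_apply, Perm.mul_apply, hB, show h.pw u (A i) = A i from hu.1 i, hA]⟩
    neg := by
      have h0 : (sw ε)⁻¹ = sw ε := inv_eq_of_mul_eq_one_right (sw_mul_sw ε)
      refine .inr ⟨h.pw.symm (sw ε), (h.mem_CW0 ε).2 (by rw [e1]), funext fun x => ?_, fun u hu => ?_,
        fun g => .inr (h.pw.injective ?_)⟩
      · rw [h.vecMul_Wm, e1, Pi.neg_apply, hx]
        rcases vc_cases hd 1 x with ⟨j, rfl, h2⟩ | ⟨j, rfl, h2⟩ | ⟨h1, h2, h3⟩
        · rw [h2, hA, vc_B hd]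
        · rw [h2, hB, vc_A hd, neg_neg]
        · rw [h3, vc_out _ (fun ⟨i, hi⟩ => h2 ⟨i, by rw [← hA, hi, sw_sw]⟩)
            fun ⟨i, hi⟩ => h1 ⟨i, by rw [← hB, hi, sw_sw]⟩, neg_zero]
      · show h.pw _ ∈ PU A B
        rw [map_mul, map_mul, map_inv, e1, h0]
        exact ⟨fun i => by rw [Perm.mul_apply, Perm.mul_apply, hA, show h.pw u (B i) = B i from hu.2 i, hB],
          fun i => by rw [Perm.mul_apply, Perm.mul_apply, hB, show h.pw u (A i) = A i from hu.1 i, hA]⟩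
      · show h.pw (_ * h.pw.symm _) = h.pw (h.pw.symm _ * _)
        rw [map_mul, map_mul, e1, e1, e1, ← e5 g, ← mul_assoc, ← mul_assoc, sw_mul_sw, one_mul]
    levi := fun f => by
      refine ⟨vc A B fun i => (f i : ℕ) + 1, -Q, neg_ne_zero.2 h.Q_ne, funext fun x => ?_, fun v => ?_⟩
      · obtain ⟨y, rfl⟩ := (sw ε).surjective x
        rw [h.WM_w0, smul_mulVec, Pi.smul_apply, pm_apply, Pi.smul_apply, smul_eq_mul, smul_eq_mul]
        rcases vc_cases hd (fun i => (f i : ℕ) + 1) y with ⟨j, rfl, h2⟩ | ⟨j, rfl, h2⟩ | ⟨h1, h2, h3⟩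
        · rw [h2, hA, vc_B hd, neg_mul_neg]
        · rw [h2, hB, vc_A hd, neg_mul_comm]
        · rw [h3, vc_out _ (fun ⟨i, hi⟩ => h2 ⟨i, by rw [← hA, hi, sw_sw]⟩)
            fun ⟨i, hi⟩ => h1 ⟨i, by rw [← hB, hi, sw_sw]⟩, mul_zero, mul_zero]
      · rw [h.mem_Wl]
        constructor
        · intro hv
          obtain ⟨g, hg⟩ := exists_perm (A := A) (π := h.pw v) fun i => by
            have h1 := hv (A i)
            rw [vc_A hd] at h1
            rcases vc_cases hd (fun i => (f i : ℕ) + 1) (h.pw v (A i)) with ⟨j, h2, -⟩ | ⟨j, -, h2⟩ | ⟨-, -, h2⟩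
            · exact ⟨j, h2.symm⟩
            · omega
            · omega
          obtain ⟨g', hg'⟩ := exists_perm (A := B) (π := h.pw v) fun i => by
            have h1 := hv (B i)
            rw [vc_B hd] at h1
            rcases vc_cases hd (fun i => (f i : ℕ) + 1) (h.pw v (B i)) with ⟨j, -, h2⟩ | ⟨j, h2, -⟩ | ⟨-, -, h2⟩
            · omega
            · exact ⟨j, h2.symm⟩
            · omega
          refine ⟨g, fun i => Fin.ext ?_, g', fun i => Fin.ext ?_, e3 v g g' hg hg'⟩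
          · have h1 := hv (A i)
            rw [hg, vc_A hd, vc_A hd] at h1
            omega
          · have h1 := hv (B i)
            rw [hg', vc_B hd, vc_B hd] at h1
            omega
        · rintro ⟨g, hg, g', hg', u, hu, rfl⟩ x
          exact (congrArg _ (DFunLike.congr_fun (e2 g g' u) x)).trans (vc_perm hd (prod_A hd g g' hu) (prod_B hd g g' hu)
            (fun i => by rw [hg i]) (fun i => by rw [hg' i]) x)
    fus := fun x v c' h1 ⟨i, hi⟩ h2 h3 => by
      have h4 : ∀ y, c' (h.pw v y) = x ^ vc A B 1 y := fun y => hx ▸ h.rel_iff.1 h3 y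
      have h5 : ∀ y, c' (sw ε y) = (c' y)⁻¹ := fun y => (h.pow_succ_eq ε h2 ⟨i, funext fun y => by
        obtain ⟨y, rfl⟩ := (h.pw v).surjective y
        rw [Pi.pow_apply, h4, ← zpow_natCast, ← _root_.zpow_mul, mul_comm, _root_.zpow_mul, zpow_natCast, hi,
          _root_.one_zpow, Pi.one_apply]⟩ y).2
      have h6 : x⁻¹ ≠ x := fun e => h1 (eq_one_of_zpow hi (n := 2) (by
        rw [zpow_two]; exact mul_eq_one_iff_eq_inv.2 e.symm) (by decide))
      have hA' : ∀ j, c' (h.pw v (A j)) = x := fun j => by rw [h4, vc_A hd, Pi.one_apply, zpow_one]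
      have hB' : ∀ j, c' (h.pw v (B j)) = x⁻¹ := fun j => by rw [h4, vc_B hd, Pi.one_apply, _root_.zpow_neg_one]
      have h7 : ∀ y, c' y = x → ∃ j, y = h.pw v (A j) := fun y hy => by
        obtain ⟨y, rfl⟩ := (h.pw v).surjective y
        rcases vc_cases hd 1 y with ⟨j, rfl, -⟩ | ⟨j, rfl, -⟩ | ⟨-, -, h8⟩
        · exact ⟨j, rfl⟩
        · exact absurd ((hB' j).symm.trans hy) h6
        · rw [h4, h8, zpow_zero] at hy
          exact absurd hy.symm h1
      obtain ⟨π, h8, h9⟩ := exists_equiv ε A.injective (fun i j e => hd j i (e.symm.trans (hA i)))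
        ((h.pw v).injective.comp A.injective) fun i j e => h6 (by
          have h8 := h5 (h.pw v (A i))
          rw [show sw ε (h.pw v (A i)) = h.pw v (A j) from e, hA', hA'] at h8
          exact h8.symm)
      have h10 : ∀ y, sw ε (π y) = π (sw ε y) := DFunLike.congr_fun h8
      have h11 : ∀ j, π (A j) = h.pw v (A j) := h9
      refine ⟨h.pw.symm π, (h.mem_CW0 ε).2 (by rwa [e1]), h.rel_iff.2 fun y => ?_⟩
      rw [e1, cx, hx]
      rcases vc_cases hd 1 y with ⟨j, rfl, h12⟩ | ⟨j, rfl, h12⟩ | ⟨h12, h13, h14⟩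
      · rw [h11, h4]
      · rw [h12, ← hA, ← h10, h5, h11, hA', Pi.one_apply, _root_.zpow_neg_one]
      · rw [h14]
        obtain ⟨y', h15⟩ := (h.pw v).surjective (π y)
        rcases vc_cases hd 1 y' with ⟨j, rfl, -⟩ | ⟨j, rfl, -⟩ | ⟨-, -, h16⟩
        · exact absurd ⟨j, π.injective ((h11 j).trans h15)⟩ h12
        · obtain ⟨j', h16⟩ := h7 (sw ε (h.pw v (B j))) (by rw [h5, hB', inv_inv])
          rw [h15, h10, ← h11] at h16
          exact absurd ⟨j', by rw [← hA, ← π.injective h16, sw_sw]⟩ h13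
        · rw [← h15, h4, h16] }

theorem lab_ia (y : Fin m → ℂˣ) (i : Fin m) : lab D (LL ε) y (ia ε i) = y i := by
  rw [lab, ← chr_single i y]
  congr 2
  funext a
  simp [LL_apply, Pi.single_apply]

theorem lab_ib (y : Fin m → ℂˣ) (i : Fin m) : lab D (LL ε) y (ib ε i) = (y i)⁻¹ := by
  rw [lab, ← chr_single i y, ← chr_neg]
  congr 2
  funext a
  simp [LL_apply, Pi.single_apply]

theorem lab_ic (y : Fin m → ℂˣ) (i : Fin r) : lab D (LL ε) y (ε (.inr i)) = 1 := by
  rw [lab, ← chr_zero y]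
  congr 2
  funext a
  simp [LL_apply]

/-- **the groups of type `A ^ (-ε)` are B-like** -/
noncomputable def blike (hr : r ≤ 1) (hm : 1 ≤ m) : BLike D Adm (h.w0 ε) m (padicValInt 3 (Q + 1)) :=
  have : Fact (Nat.Prime 3) := ⟨Nat.prime_three⟩
  have hQ : Q + 1 ≠ 0 := fun e => by
    have := h.two_le
    omega
  { n_pos := hm
    a_pos := ((padicValInt_dvd_iff (p := 3) 1 (Q + 1)).1 (by simpa using h.Q3)).resolve_left hQ
    L := LL ε
    Q := -Q
    hQ := by
      rw [show -Q - 1 = -(Q + 1) by ring, dvd_neg]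
      exact padicValInt_dvd (p := 3) (Q + 1)
    L_surj := fun z => ⟨Function.extend (ia ε) z 0, funext fun i => by
      rw [LL_mulVec, Function.Injective.extend_apply fun _ _ => (ia_inj ε).1,
        Function.extend_apply' _ _ _ fun ⟨j, hj⟩ => ia_ne_ib ε _ _ hj]
      simp⟩
    L_Θ := by
      ext i x
      rw [h.WM_w0, Matrix.mul_smul, Matrix.smul_apply, LL_pm, Matrix.smul_apply]
      rcases cases ε x with ⟨j, rfl⟩ | ⟨j, rfl⟩ | ⟨j, rfl⟩ <;> simp [LL_apply] <;> split_ifs <;> simp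
    lab_surj := fun c hc h3 => by
      refine ⟨fun i => c (ia ε i), funext fun i => ?_, funext fun x => ?_⟩
      · obtain ⟨j, hj⟩ := h3
        obtain ⟨v, hv⟩ := padicValInt_dvd (p := 3) (Q + 1)
        refine eq_one_of_zpow (j := j) ?_ (n := v) ?_ fun h4 => ?_
        · rw [Pi.pow_apply, ← pow_mul, mul_comm, pow_mul, show c (ia ε i) ^ 3 ^ j = 1 from congrFun hj _, one_pow]
        · rw [Pi.pow_apply, ← zpow_natCast, ← _root_.zpow_mul, Nat.cast_pow, ← hv]
          exact (h.pow_succ_eq ε hc ⟨j, hj⟩ _).1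
        · have h5 := ((padicValInt_dvd_iff (p := 3) (padicValInt 3 (Q + 1) + 1) (Q + 1)).1 (by
            conv_rhs => rw [hv]
            rw [pow_succ]
            exact mul_dvd_mul_left _ h4)).resolve_left hQ
          omega
      · rcases cases ε x with ⟨i, rfl⟩ | ⟨i, rfl⟩ | ⟨i, rfl⟩
        · rw [lab_ia]
        · rw [lab_ib, ← sw_ia, (h.pow_succ_eq ε hc h3 _).2]
        · obtain ⟨j, hj⟩ := h3
          have h4 := (h.pow_succ_eq ε hc ⟨j, hj⟩ (ε (.inr i))).2
          rw [sw_ic] at h4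
          rw [lab_ic]
          exact eq_one_of_zpow (congrFun hj _) (n := 2) (by rw [zpow_two]; exact mul_eq_one_iff_eq_inv.2 h4) (by decide)
    act := fun v hv => by
      have h1 : ∀ y, sw ε (h.pw v y) = h.pw v (sw ε y) := DFunLike.congr_fun ((h.mem_CW0 ε).1 hv)
      choose g hg using fun b => exists_idx ε (y := h.pw v (ia ε b)) fun e => by
        rw [h1, sw_ia] at e
        exact ib_ne_ia ε _ _ ((h.pw v).injective e)
      have h2 : Function.Injective g := fun b b' e => by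
        rcases idx_rel ε (hg b) (e ▸ hg b') with h2 | h2
        · exact (ia_inj ε).1 ((h.pw v).injective h2)
        · rw [h1, sw_ia] at h2
          exact absurd ((h.pw v).injective h2) (ia_ne_ib ε _ _)
      let π : Perm (Fin m) := Equiv.ofBijective g (Finite.injective_iff_bijective.1 h2)
      refine ⟨π, fun b => if h.pw v (ia ε b) = ia ε (g b) then 1 else -1, ?_⟩
      ext i x
      obtain ⟨b, rfl⟩ := π.surjective i
      rw [h.Wm_eq, LL_pm]
      refine Eq.trans ?_ (spm_LL ε π _ b x).symm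
      rw [LL_apply, LL_apply, show π b = g b from rfl]
      by_cases h3 : h.pw v (ia ε b) = ia ε (g b)
      · rw [if_pos h3, ← sw_ia ε (g b), ← h3, h1, sw_ia]
        simp
      · have h4 := (hg b).resolve_left h3
        rw [if_neg h3, ← sw_ib ε (g b), ← h4, h1, sw_ia]
        simp
    inj := fun v _ h1 => h.pw.injective ((eq_one_of_fix ε hr fun x hx => by
      obtain ⟨i, hi⟩ := exists_idx ε hx
      have h2 := congrFun (congrFun h1 i) x
      rw [h.Wm_eq, LL_pm, LL_apply, LL_apply] at h2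
      rcases hi with rfl | rfl
      · rw [if_pos rfl, if_neg (ib_ne_ia ε i i)] at h2
        by_contra h3
        rw [if_neg (Ne.symm h3)] at h2
        split_ifs at h2 <;> omega
      · rw [if_pos rfl, if_neg (ia_ne_ib ε i i)] at h2
        by_contra h3
        rw [if_neg (Ne.symm h3)] at h2
        split_ifs at h2 <;> omega).trans (map_one _).symm)
    bk := h.blk ε (A := eA ε (Function.Embedding.refl _)) (B := eB ε (Function.Embedding.refl _))
      (fun _ _ => ia_ne_ib ε _ _) (fun _ => sw_ia ε _)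
      (vecMul_LL ε _ (fun i => if_pos i.2) fun i hi => absurd ⟨i, rfl⟩ hi)
    b3 := fun h3 => h.blk ε (A := eA ε (Fin.castLEEmb (by omega))) (B := eB ε (Fin.castLEEmb (by omega)))
      (fun _ _ => ia_ne_ib ε _ _) (fun _ => sw_ia ε _)
      (vecMul_LL ε _ (fun i => if_pos i.2) fun i hi => if_neg fun h4 => hi ⟨⟨i, h4⟩, rfl⟩)
    refl := fun h4 => by
      subst h4
      refine ⟨h.pw.symm (swap (ia ε 3) (ib ε 3)), ?_, ?_⟩
      · show h.pw (h.pw.symm _) ∈ PU _ _
        rw [MulEquiv.apply_symm_apply]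
        have h5 : ∀ i : Fin 3, (Fin.castLE (Nat.le_succ 3) i : Fin 4) ≠ 3 := by decide
        exact ⟨fun i => swap_apply_of_ne_of_ne (fun e => h5 i ((ia_inj ε).1 e)) (ia_ne_ib ε _ _),
          fun i => swap_apply_of_ne_of_ne (ib_ne_ia ε _ _) fun e => h5 i ((ib_inj ε).1 e)⟩
      · rw [h.Wm_symm, det_spm, Perm.sign_swap (ia_ne_ib ε _ _)]
        simp
    adm := fun A hA => by
      obtain ⟨j, s, π, rfl⟩ := h.adm A hA
      refine .inl ⟨h.pw.symm π⁻¹, s * (p : ℤ) ^ j, fun h1 => ?_, ?_⟩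
      · have h2 : 3 ∣ p ^ j := by
          have h3 := Int.natAbs_dvd_natAbs.2 h1
          rwa [Int.natAbs_mul, Int.units_natAbs, one_mul, Int.natAbs_pow, Int.natAbs_natCast] at h3
        exact h.p_ne ((Nat.prime_dvd_prime_iff_eq Nat.prime_three Fact.out).1 (Nat.prime_three.dvd_of_dvd_pow h2)).symm
      · rw [h.Wm_symm, Matrix.mul_smul, pm_mul, inv_mul_cancel, spm_one] }

end AM

end Cfsg.Agent.KZ.ClM
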