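import Cfsg.Agent.KZ.ClM.Mat
import Cfsg.Agent.KZ.Lie.Mc

/-!
# KZ, type `A ^ (-ε)`: the Sylow torus (helper68)

`sw ε` : the product of `m` transpositions given by the coordinates `ε`; the conditions `Full`, `RegC` and the Levi condition.
-/

set_option autoImplicit false
set_option linter.unusedSectionVars false

namespace Cfsg.Agent.KZ.ClM

open Cfsg Cfsg.Agent.DL Cfsg.Agent.DL.PP Cfsg.Agent.KZ.Lie Cfsg.Agent.KZ.Dat Matrix Equiv

section Num

theorem abs_ne {Q : ℤ} (h2 : 2 ≤ Q.natAbs) (i : ℕ) : (Q ^ (i + 1) - 1).natAbs ≠ 0 := fun h => by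
  have h1 := congrArg Int.natAbs (sub_eq_zero.1 (Int.natAbs_eq_zero.1 h))
  rw [Int.natAbs_pow] at h1
  exact (Nat.one_lt_pow (Nat.succ_ne_zero i) h2).ne' h1

theorem fact_abs {Q : ℤ} (h3 : 3 ∣ Q + 1) (h2 : 2 ≤ Q.natAbs) (n : ℕ) :
    (∏ i ∈ Finset.range n, (Q ^ (i + 1) - 1).natAbs).factorization 3 =
      n / 2 * (Q ^ 2 - 1).natAbs.factorization 3 + (n / 2).factorial.factorization 3 := by
  have : Fact (Nat.Prime 3) := ⟨Nat.prime_three⟩
  have h0 := abs_ne h2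
  have hQ : Q ≡ -1 [ZMOD 3] := (Int.modEq_iff_dvd.2 (by simpa [add_comm] using h3)).symm
  have he : ∀ m, Q ^ (2 * m) - 1 = (((Q.natAbs ^ 2) ^ m - 1 ^ m : ℕ) : ℤ) := fun m => by
    rw [Nat.cast_sub (Nat.pow_le_pow_left (Nat.one_le_pow _ _ (by omega)) m)]
    push_cast
    rw [sq_abs, one_pow, pow_mul]
  induction n with
  | zero => simp
  | succ n ih =>
    rw [Finset.prod_range_succ, Nat.factorization_mul (Finset.prod_ne_zero_iff.2 fun i _ => h0 i) (h0 n),
      Finsupp.add_apply, ih]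
    obtain ⟨m, rfl | rfl⟩ := Nat.even_or_odd' n
    · have h1 : ¬ 3 ∣ (Q ^ (2 * m + 1) - 1).natAbs := fun h => by
        have h4 : (3 : ℤ) ∣ Q ^ (2 * m + 1) - 1 := Int.natAbs_dvd_natAbs.1 h
        have h5 := hQ.pow (2 * m + 1)
        rw [Odd.neg_one_pow ⟨m, rfl⟩] at h5
        have h6 := h5.dvd
        omega
      rw [Nat.factorization_eq_zero_of_not_dvd h1, show (2 * m + 1) / 2 = 2 * m / 2 by omega, add_zero]
    · have h1 := he 1
      have h4 : 1 < Q.natAbs ^ 2 := by nlinarith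
      have h5 : 3 ∣ Q.natAbs ^ 2 - 1 := by
        have h6 : (3 : ℤ) ∣ Q ^ (2 * 1) - 1 := by
          rw [show Q ^ (2 * 1) - 1 = (Q + 1) * (Q - 1) by ring]
          exact h3.mul_right _
        rw [h1, pow_one, pow_one] at h6
        exact_mod_cast h6
      have h6 : ¬ 3 ∣ Q.natAbs ^ 2 := fun h => by omega
      rw [show 2 * m + 1 + 1 = 2 * (m + 1) by ring, he, Int.natAbs_natCast, Nat.factorization_def (_ - _) Nat.prime_three,
        padicValNat.pow_sub_pow (by decide) h4 h5 h6 (Nat.add_one_ne_zero m), show (2 * m + 1) / 2 = m by omega,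
        show 2 * (m + 1) / 2 = m + 1 by omega, Nat.factorial_succ,
        Nat.factorization_mul (Nat.succ_ne_zero m) (Nat.factorial_ne_zero m), Finsupp.add_apply,
        show Q ^ 2 - 1 = Q ^ (2 * 1) - 1 from rfl, h1, Int.natAbs_natCast, pow_one, pow_one,
        Nat.factorization_def _ Nat.prime_three, Nat.factorization_def (m + 1) Nat.prime_three]
      ring

end Num

/-- the coordinates -/
abbrev Ix (m r : ℕ) : Type := (Fin m ⊕ Fin m) ⊕ Fin r

section Sw

variable {R : Type} [Fintype R] [DecidableEq R] {m r : ℕ} (ε : Ix m r ≃ R)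

/-- the first member of a pair -/
def ia (i : Fin m) : R := ε (.inl (.inl i))

/-- the second member of a pair -/
def ib (i : Fin m) : R := ε (.inl (.inr i))

/-- the product of the transpositions -/
def sw : Perm R := ε.permCongr (Equiv.sumCongr (Equiv.sumComm (Fin m) (Fin m)) (Equiv.refl (Fin r)))

@[simp] theorem sw_ia (i : Fin m) : sw ε (ia ε i) = ib ε i := by simp [sw, ia, ib]

@[simp] theorem sw_ib (i : Fin m) : sw ε (ib ε i) = ia ε i := by simp [sw, ia, ib]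

@[simp] theorem sw_ic (i : Fin r) : sw ε (ε (.inr i)) = ε (.inr i) := by simp [sw]

@[simp] theorem ia_inj {i j : Fin m} : ia ε i = ia ε j ↔ i = j := by simp [ia]

@[simp] theorem ib_inj {i j : Fin m} : ib ε i = ib ε j ↔ i = j := by simp [ib]

@[simp] theorem ia_ne_ib (i j : Fin m) : ia ε i ≠ ib ε j := by simp [ia, ib]

@[simp] theorem ib_ne_ia (i j : Fin m) : ib ε i ≠ ia ε j := by simp [ia, ib]

@[simp] theorem ia_ne_ic (i : Fin m) (j : Fin r) : ia ε i ≠ ε (.inr j) := by simp [ia]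

@[simp] theorem ib_ne_ic (i : Fin m) (j : Fin r) : ib ε i ≠ ε (.inr j) := by simp [ib]

@[simp] theorem ic_ne_ia (i : Fin m) (j : Fin r) : ε (.inr j) ≠ ia ε i := by simp [ia]

@[simp] theorem ic_ne_ib (i : Fin m) (j : Fin r) : ε (.inr j) ≠ ib ε i := by simp [ib]

theorem cases (x : R) : (∃ i, x = ia ε i) ∨ (∃ i, x = ib ε i) ∨ ∃ j, x = ε (.inr j) := by
  obtain ⟨(i | i) | j, rfl⟩ := ε.surjective x
  · exact .inl ⟨i, rfl⟩
  · exact .inr (.inl ⟨i, rfl⟩)
  · exact .inr (.inr ⟨j, rfl⟩)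

theorem sw_sw (x : R) : sw ε (sw ε x) = x := by
  rcases cases ε x with ⟨i, rfl⟩ | ⟨i, rfl⟩ | ⟨i, rfl⟩ <;> simp

theorem sw_mul_sw : sw ε * sw ε = 1 := Equiv.ext (sw_sw ε)

theorem eq_of_fix (hr : r ≤ 1) {x y : R} (hx : sw ε x = x) (hy : sw ε y = y) : x = y := by
  have : Subsingleton (Fin r) := Fin.subsingleton_iff_le_one.2 hr
  rcases cases ε x with ⟨i, rfl⟩ | ⟨i, rfl⟩ | ⟨i, rfl⟩
  · simp at hx
  · simp at hx
  rcases cases ε y with ⟨j, rfl⟩ | ⟨j, rfl⟩ | ⟨j, rfl⟩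
  · simp at hy
  · simp at hy
  rw [Subsingleton.elim i j]

include ε in
theorem card_eq : Fintype.card R = 2 * m + r := by
  rw [← Fintype.card_congr ε]
  simp [two_mul]

theorem det_sw (Q : ℤ) : (Q • spm (sw ε) 1 - 1).det = (1 - Q ^ 2) ^ m * (Q - 1) ^ r := by
  have h1 : (Q • spm (sw ε) 1 - 1).submatrix ε ε =
      fromBlocks (-fromBlocks 1 ((-Q) • 1) ((-Q) • 1) 1) 0 0 ((Q - 1) • (1 : Matrix (Fin r) (Fin r) ℤ)) := by
    ext ((i | i) | i) ((j | j) | j) <;>
      simp only [submatrix_apply, Matrix.sub_apply, Matrix.smul_apply, spm_apply, fromBlocks_apply₁₁, fromBlocks_apply₁₂,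
        fromBlocks_apply₂₁, fromBlocks_apply₂₂, Matrix.neg_apply, Matrix.one_apply, Matrix.zero_apply] <;> simp [sw]
    all_goals split_ifs <;> simp
  rw [← det_submatrix_equiv_self ε, h1, det_fromBlocks_zero₂₁, det_neg, det_fromBlocks_one₁₁, det_smul, det_one,
    Matrix.smul_mul, Matrix.one_mul, smul_smul, ← one_smul ℤ (1 : Matrix (Fin m) (Fin m) ℤ), smul_smul, ← sub_smul,
    det_smul, det_one]
  simp [← two_mul, sq]

theorem card_cent : Nat.card (Subgroup.centralizer {sw ε}) = r.factorial * 2 ^ m * m.factorial := by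
  have : Fact (Nat.Prime 2) := ⟨Nat.prime_two⟩
  have h1 := Perm.cycleType_of_pow_prime_eq_one (p := 2) (σ := sw ε) (by rw [sq, sw_mul_sw])
  have h2 : (sw ε).support = (Finset.univ.map ⟨Sum.inl, Sum.inl_injective⟩).map ε.toEmbedding := by
    ext x
    rcases cases ε x with ⟨i, rfl⟩ | ⟨i, rfl⟩ | ⟨i, rfl⟩
    · simp [ia, sw]
    · simp [ib, sw]
    · simp
  have h3 := (sw ε).sum_cycleType
  rw [h2, Finset.card_map, Finset.card_map, Finset.card_univ, h1, Multiset.sum_replicate, Fintype.card_sum,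
    Fintype.card_fin, smul_eq_mul] at h3
  rw [show (sw ε).cycleType.card = m by omega] at h1
  rw [Perm.nat_card_centralizer, h1, card_eq ε, Multiset.sum_replicate, Multiset.prod_replicate, smul_eq_mul,
    show 2 * m + r - m * 2 = r by omega]
  congr 1
  rcases Nat.eq_zero_or_pos m with rfl | hm
  · simp
  · rw [Multiset.toFinset_replicate, if_neg hm.ne', Finset.prod_singleton, Multiset.count_replicate_self]

/-- the vector of a pair -/
theorem mulVec_pair (Q : ℤ) (x : R) : (Q • spm (sw ε) 1 - 1) *ᵥ (Pi.single x 1 - Pi.single (sw ε x) 1) =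
    (-(Q + 1)) • (Pi.single x 1 - Pi.single (sw ε x) 1) := by
  rw [sub_mulVec, one_mulVec, smul_mulVec, mulVec_sub, pm_single, pm_single, sw_sw]
  module

end Sw

theorem exists_ix (R : Type) [Fintype R] : ∃ r ≤ 1, Nonempty (Ix (Fintype.card R / 2) r ≃ R) :=
  ⟨Fintype.card R % 2, by omega, ⟨Fintype.equivOfCardEq (by simp; omega)⟩⟩

variable {p : ℕ} [Fact p.Prime] {k : Type} [Field k] [CharP k p] {Y : Type} [Group Y] {N : Type} [Fintype N]
  [DecidableEq N] {ρ : Y →* GL N k} {F : MulAut Y} {G : Subgroup Y} [IsAlgClosed k]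

namespace AM

variable {D : Datum p ρ F G} {Adm : Matrix D.R D.R ℤ → Prop} {Q : ℤ} (h : AM D Adm Q) {m r : ℕ} (ε : Ix m r ≃ D.R)

/-- the type of the Sylow torus -/
noncomputable def w0 : D.W := h.of (sw ε)

theorem ty_w0 : h.ty (h.w0 ε) = sw ε := h.ty_of _

theorem WM_w0 : D.Wm (h.w0 ε) * D.Mx = Q • spm (sw ε) 1 := by rw [h.WM_eq, h.ty_w0]

theorem mem_CW0 {v : D.W} : v ∈ CW D (h.w0 ε) ↔ sw ε * h.pw v = h.pw v * sw ε := by rw [h.mem_CW, h.ty_w0]

theorem ordT_w0 : ordT D (h.w0 ε) = (Q ^ 2 - 1).natAbs ^ m * (Q - 1).natAbs ^ r := by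
  rw [ordT, h.WM_w0, det_sw, Int.natAbs_mul, Int.natAbs_pow, Int.natAbs_pow, ← Int.natAbs_neg (1 - Q ^ 2), neg_sub]

theorem card_CW0 : Nat.card (CW D (h.w0 ε)) = r.factorial * 2 ^ m * m.factorial := by
  rw [← card_cent ε]
  exact Nat.card_congr (h.pw.toEquiv.subtypeEquiv fun v =>
    (h.mem_CW0 ε).trans (Subgroup.mem_centralizer_singleton_iff.trans eq_comm).symm)

include h in
theorem not_dvd : ¬ 3 ∣ (Q - 1).natAbs := fun h1 => by
  have h2 : (3 : ℤ) ∣ Q - 1 := Int.natAbs_dvd_natAbs.1 h1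
  have := h.Q3
  omega

theorem full (hr : r ≤ 1) : Full D (h.w0 ε) := by
  obtain ⟨e, he⟩ := h.card
  have h2 := h.two_le
  have h0 := abs_ne h2
  have h3 : (Q - 1).natAbs ≠ 0 := by simpa using h0 0
  have h4 : ¬ 3 ∣ p := fun h4 => h.p_ne ((Nat.prime_dvd_prime_iff_eq Nat.prime_three Fact.out).1 h4).symm
  have h5 : r.factorial = 1 := Nat.factorial_eq_one.2 hr
  rw [Full, he, h.ordT_w0, h.card_CW0, h5, one_mul,
    Nat.factorization_mul (pow_ne_zero _ (Fact.out : p.Prime).ne_zero) (Finset.prod_ne_zero_iff.2 fun i _ => h0 i),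
    Nat.factorization_mul (mul_ne_zero (pow_ne_zero _ (h0 1)) (pow_ne_zero _ h3))
      (mul_ne_zero (pow_ne_zero _ two_ne_zero) (Nat.factorial_ne_zero m)),
    Nat.factorization_mul (pow_ne_zero _ (h0 1)) (pow_ne_zero _ h3),
    Nat.factorization_mul (pow_ne_zero _ two_ne_zero) (Nat.factorial_ne_zero m)]
  simp only [Finsupp.add_apply, Nat.factorization_pow, Finsupp.smul_apply, smul_eq_mul]
  rw [fact_abs h.Q3 h2, card_eq ε, show (2 * m + r) / 2 = m by omega, Nat.factorization_eq_zero_of_not_dvd h4,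
    Nat.factorization_eq_zero_of_not_dvd h.not_dvd, Nat.factorization_eq_zero_of_not_dvd (by decide : ¬ 3 ∣ 2)]
  simp

theorem dvd_pair (x : D.R) (i : D.R) :
    (3 : ℤ) ∣ ((D.Wm (h.w0 ε) * D.Mx - 1) *ᵥ (Pi.single x 1 - Pi.single (sw ε x) 1)) i := by
  rw [h.WM_w0, mulVec_pair, Pi.smul_apply, smul_eq_mul]
  exact (dvd_neg.2 h.Q3).mul_right _

theorem regC (hr : r ≤ 1) : RegC D (h.w0 ε) := by
  intro v _ h1
  have h2 : ∀ x, sw ε x ≠ x → h.pw v x = x := fun x hx => by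
    have h3 := h1 1 _ (fun i => by rw [pow_one]; exact h.dvd_pair ε x i) x
    rw [h.Wm_eq, sub_mulVec, one_mulVec, mulVec_sub, pm_single, pm_single] at h3
    by_contra h4
    simp only [Pi.sub_apply, Pi.single_apply, if_neg (Ne.symm h4), if_neg hx.symm, if_true] at h3
    split_ifs at h3 <;> omega
  refine h.pw.injective (Equiv.ext fun x => ?_)
  rw [map_one, Perm.one_apply]
  by_cases hx : sw ε x = x
  · by_contra h3
    exact h3 ((h.pw v).injective (h2 _ fun h4 => h3 (eq_of_fix ε hr h4 hx)))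
  · exact h2 x hx

/-- the Levi condition -/
theorem lev (hr : r ≤ 1) (a : D.I → ℤ) (ha : D.Rt a) : ∃ lam : D.R → ℤ,
    (∀ i, (3 : ℤ) ∣ ((D.Wm (h.w0 ε) * D.Mx - 1) *ᵥ lam) i) ∧
      (∀ b, D.Rt b → (3 : ℤ) ∣ D.wt b ⬝ᵥ lam → D.wt b ⬝ᵥ lam = 0) ∧ D.wt a ⬝ᵥ lam ≠ 0 := by
  have h1 : ∀ (x y : D.R) b, D.Rt b → (3 : ℤ) ∣ D.wt b ⬝ᵥ (Pi.single x 1 - Pi.single y 1) →
      D.wt b ⬝ᵥ (Pi.single x 1 - Pi.single y 1) = 0 := fun x y b hb => by
    obtain ⟨i, j, -, h2, -⟩ := h.rt b hb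
    rw [h2]
    simp only [sub_dotProduct, single_dotProduct, Pi.sub_apply, Pi.single_apply]
    split_ifs <;> omega
  obtain ⟨i, j, hne, h2, -⟩ := h.rt a ha
  by_cases hi : sw ε i = i
  · refine ⟨_, h.dvd_pair ε j, h1 _ _, ?_⟩
    have hj : sw ε j ≠ j := fun hj => hne (eq_of_fix ε hr hi hj)
    rw [h2]
    simp only [sub_dotProduct, single_dotProduct, Pi.sub_apply, Pi.single_apply, if_neg hne, if_neg hj.symm, if_true]
    split_ifs <;> omega
  · refine ⟨_, h.dvd_pair ε i, h1 _ _, ?_⟩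
    rw [h2]
    simp only [sub_dotProduct, single_dotProduct, Pi.sub_apply, Pi.single_apply, if_neg hne.symm, if_neg (Ne.symm hi),
      if_true]
    split_ifs <;> omega

theorem mc [Fintype ↥(GF F G)] (hr : r ≤ 1) (f : Fr D) : Mc f (h.w0 ε) :=
  mc_of_lev f h.p_ne (h.lev ε hr) (h.regC ε hr) (h.full ε hr)

end AM

end Cfsg.Agent.KZ.ClM
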